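import Cfsg.Agent.Lib.Invol.OddTransitive.Blocks
import Cfsg.Agent.Lib.Grp.Cores
import Cfsg.Agent.Lib.Invol.SCNHall

/-!
Groups of odd order transitive on the non-zero vectors: the semilinear structure and its
consequences for the Fitting subgroup.
-/

set_option autoImplicit false
set_option linter.unusedSectionVars false

namespace Cfsg.Agent.Invol.OddTransitive

open Cfsg Cfsg.Agent Cfsg.Agent.Recog Cfsg.Agent.Recog.HuppertCases Cfsg.Agent.Recog.HuppertPrimitive

universe u v

variable {V : Type v} [AddCommGroup V] [Module (ZMod 2) V] [Finite V]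
  {G : Type u} [Group G] [Finite G] {ρ : G →* (V ≃ₗ[ZMod 2] V)}

theorem semi_of_odd [Nontrivial V] (hG : Odd (Nat.card G)) (hρ : Function.Injective ρ)
    (ht : Trans ρ) : Semi ρ := by
  classical
  set n := Module.finrank (ZMod 2) V with hn_def
  have hn : 0 < n := Module.finrank_pos
  by_cases h1 : n = 1
  · exact semilinear (A := ⊥) inferInstance (fun a ha b hb => by
      rw [Subgroup.mem_bot.1 ha]; exact Commute.one_left b) (irred_of_finrank_one h1 _)
  let b := Module.finBasis (ZMod 2) V
  let R : G →* Matrix (Fin n) (Fin n) (ZMod 2) :=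
    ((LinearMap.toMatrixAlgEquiv b : _ ≃ₐ[ZMod 2] _) : Module.End (ZMod 2) V →* _).comp (toEnd ρ)
  have hR : Function.Injective R := (LinearMap.toMatrixAlgEquiv b).injective.comp
    (fun g h e => hρ (LinearEquiv.toLinearMap_injective e))
  have hRmul : ∀ g (v : V), (R g).mulVec (b.equivFun v) = b.equivFun (ρ g v) := by
    intro g v
    exact LinearMap.toMatrix_mulVec_repr b b (toEnd ρ g) v
  have hirr : ∀ W : Submodule (ZMod 2) (Fin n → ZMod 2),
      (∀ g, ∀ w ∈ W, (R g).mulVec w ∈ W) → W = ⊥ ∨ W = ⊤ := by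
    intro W hW
    refine (em (W = ⊥)).imp_right fun hW0 => ?_
    obtain ⟨w, hw, hw0⟩ := (Submodule.ne_bot_iff W).1 hW0
    refine eq_top_iff.2 fun u _ => ?_
    by_cases hu : u = 0
    · exact hu ▸ W.zero_mem
    obtain ⟨g, hg⟩ := ht (b.equivFun.symm w) (b.equivFun.symm u)
      (by rwa [Ne, LinearEquiv.map_eq_zero_iff]) (by rwa [Ne, LinearEquiv.map_eq_zero_iff])
    have := hW g w hw
    rwa [show w = b.equivFun (b.equivFun.symm w) from (b.equivFun.apply_symm_apply w).symm, hRmul, hg,
      b.equivFun.apply_symm_apply] at this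
  obtain ⟨χ, d, hχ, hd, hf, hodd, hdn⟩ := exists_small_char hG R hn hR hirr
  have hχc : IsCharacter G χ := Char.IsIrr.isCharacter hχ
  by_cases h6 : n = 6
  · have hd3 : d ≤ 3 := by
      rcases hdn with h | h
      · rw [h, h6] at hodd; exact absurd hodd (by decide)
      · omega
    have hcard : Nat.card G ∣ 3 ^ 4 * 5 * 7 ^ 2 * 31 := by
      have hinj : Function.Injective R.toHomUnits := fun g h e => hR (congrArg Units.val e)
      have h1 := Subgroup.card_dvd_of_injective R.toHomUnits hinj
      have h2 : Nat.card (GL (Fin n) (ZMod 2)) = 2 ^ 15 * (3 ^ 4 * 5 * 7 ^ 2 * 31) := by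
        rw [Matrix.card_GL_field, ZMod.card, h6]
        simp [Fin.prod_univ_succ]
      rw [h2] at h1
      exact ((hG.coprime_two_right).pow_right 15).dvd_of_dvd_mul_left h1
    have hsol : Group.IsSolvable G := by
      by_cases h31 : 31 ∣ Nat.card G
      · haveI : Fact (Nat.Prime 31) := ⟨by norm_num⟩
        obtain ⟨H, hH, hHc⟩ := exists_normal_of_small (p := 31) hG h31 (fun h => by
          have := h.trans hcard; norm_num at this) hχc hd hf (by omega)
        haveI := hH
        haveI : IsCyclic H := isCyclic_of_prime_card hHc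
        haveI : Group.IsSolvable H := Group.isSolvable_of_comm fun a b => IsCyclic.commGroup.mul_comm a b
        haveI : Group.IsSolvable (G ⧸ H) := by
          refine solvable_small ?_
          have h := H.card_mul_index
          rw [Subgroup.index_eq_card, hHc] at h
          apply Nat.dvd_of_mul_dvd_mul_left (by norm_num : 0 < 31)
          rw [h]
          exact hcard.trans (dvd_of_eq (by norm_num))
        exact Group.isSolvable_of_ker_le_range H.subtype (QuotientGroup.mk' H) (by simp)
      · refine solvable_small (Nat.Coprime.dvd_of_dvd_mul_right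
          ((Nat.Prime.coprime_iff_not_dvd (by norm_num)).2 h31).symm hcard)
    refine (Cfsg.Agent.S3360.result 2 hsol ρ hρ ht).resolve_right ?_
    rw [Module.natCard_eq_pow_finrank (K := ZMod 2), Nat.card_zmod, ← hn_def, h6]
    simp
  · obtain ⟨p, hP⟩ := Zsigmondy.exists_primitive (a := 2) (n := n) le_rfl (by omega)
      (fun h => h6 h.2) (fun h => by
        first
          | omega
          | (obtain ⟨h2, m, hm⟩ := h
             rcases Nat.eq_zero_or_pos m with rfl | hm0
             · simp at hm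
             · have : 2 ∣ 2 ^ m := dvd_pow_self 2 hm0.ne'
               omega))
    haveI := Fact.mk hP.1
    have hpn := order_lt hP hn
    have hp2 := r_ne_q hP hn
    have h0 : ((2 : ℕ) : ZMod p) ≠ 0 := by
      rw [Ne, ZMod.natCast_eq_zero_iff, Nat.prime_dvd_prime_iff_eq hP.1 Nat.prime_two]
      exact hp2
    have hord : orderOf ((2 : ℕ) : ZMod p) = n := by
      rw [orderOf_eq_iff hn]
      refine ⟨(Zsigmondy.dvd_pow_sub_one_iff (by norm_num)).1 hP.2.1, fun i hi hi0 h => ?_⟩
      exact hP.2.2 i hi0 hi ((Zsigmondy.dvd_pow_sub_one_iff (by norm_num)).2 h)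
    have hdvdn : n ∣ p - 1 := hord ▸ orderOf_dvd_of_pow_eq_one (ZMod.pow_card_sub_one_eq_one h0)
    have hdp : 2 * d + 1 ≤ p := by
      rcases hdn with h | h
      · rw [h] at hodd
        have hp1 : 2 ∣ p - 1 := by
          obtain ⟨m, hm⟩ := hP.1.odd_of_ne_two hp2
          exact ⟨m, by omega⟩
        have := Nat.le_of_dvd (by have := hP.1.two_le; omega)
          (Nat.Coprime.mul_dvd_of_dvd_of_dvd hodd.coprime_two_left hp1 hdvdn)
        omega
      · omega
    have hdiv : p ∣ Nat.card G := hP.2.1.trans (card_sub_one_dvd ht)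
    refine semi_of_pCore hρ hP ?_
    by_cases hsq : p ^ 2 ∣ Nat.card G
    · obtain ⟨y, hy⟩ := exists_order_sq hρ hP hsq
      exact pCore_ne_bot_of_order_sq hχc hd hf (by omega) hy
    · obtain ⟨H, hH, hHc⟩ := exists_normal_of_small hG hdiv hsq hχc hd hf hdp
      intro h0
      have hle := Grp.le_pCore (p := p) hH (IsPGroup.of_card (n := 1) (by rw [hHc, pow_one]))
      rw [h0] at hle
      have := Subgroup.card_le_of_le hle
      rw [hHc, Subgroup.card_bot] at this
      have := hP.1.two_le
      omega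

/-- The conclusions for a semilinear group of odd order. -/
theorem main [Nontrivial V] (hG : Odd (Nat.card G)) (hρ : Function.Injective ρ)
    (ht : Trans ρ) :
    IsCyclic (Cfsg.fittingSubgroup G) ∧
      (∀ g ∈ Cfsg.fittingSubgroup G, g ≠ 1 → ∀ a : V, ρ g a = a → a = 0) ∧
      commutator G ≤ Cfsg.fittingSubgroup G := by
  classical
  obtain ⟨F, _, _, e, hF⟩ := semi_of_odd hG hρ ht
  choose a σ haσ using hF
  set n := Module.finrank (ZMod 2) V with hn_def
  have hn : 0 < n := Module.finrank_pos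
  have hcardF : Fintype.card F = 2 ^ n := by
    rw [← Nat.card_eq_fintype_card, ← Nat.card_congr e.toEquiv, Module.natCard_eq_pow_finrank (K := ZMod 2),
      Nat.card_zmod]
  haveI : CharP F 2 := by
    obtain ⟨r, hr⟩ := CharP.exists F
    haveI := hr
    obtain ⟨m, hrp, hm⟩ := FiniteField.card F r
    rw [hcardF] at hm
    have h2 : 2 ∣ r ^ (m : ℕ) := hm ▸ dvd_pow_self 2 hn.ne'
    have : r = 2 := ((Nat.prime_dvd_prime_iff_eq Nat.prime_two hrp).1 (Nat.prime_two.dvd_of_dvd_pow h2)).symm
    exact this ▸ hr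
  have ha0 : ∀ g, a g ≠ 0 := by
    intro g h
    obtain ⟨v, hv⟩ := exists_ne (0 : V)
    have := haσ g v
    rw [h, zero_mul, AddEquivClass.map_eq_zero_iff, LinearEquiv.map_eq_zero_iff] at this
    exact hv this
  have huniq : ∀ g (a' : F) (σ' : F ≃+* F), (∀ v, e (ρ g v) = a' * σ' (e v)) → a' = a g ∧ σ' = σ g := by
    intro g a' σ' h
    have h1 := (h (e.symm 1)).symm.trans (haσ g (e.symm 1))
    simp only [AddEquiv.apply_symm_apply, map_one, mul_one] at h1
    refine ⟨h1, RingEquiv.ext fun x => ?_⟩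
    have h2 := (h (e.symm x)).symm.trans (haσ g (e.symm x))
    simp only [AddEquiv.apply_symm_apply] at h2
    rw [h1] at h2
    exact mul_left_cancel₀ (ha0 g) h2
  have hmul : ∀ g h, a (g * h) = a g * σ g (a h) ∧ σ (g * h) = σ g * σ h := by
    intro g h
    obtain ⟨h1, h2⟩ := huniq (g * h) (a g * σ g (a h)) (σ g * σ h) (fun v => by
      rw [rho_mul, haσ, haσ, map_mul, mul_assoc]
      rfl)
    exact ⟨h1.symm, h2.symm⟩
  have hone : a 1 = 1 ∧ σ 1 = 1 := by
    obtain ⟨h1, h2⟩ := huniq 1 1 1 (fun v => by simp)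
    exact ⟨h1.symm, h2.symm⟩
  let s : G →* (F ≃+* F) := { toFun := σ, map_one' := hone.2, map_mul' := fun g h => (hmul g h).2 }
  have hker : ∀ g, g ∈ s.ker ↔ σ g = 1 := fun g => MonoidHom.mem_ker
  have hfix : ∀ g ∈ s.ker, g ≠ 1 → ∀ v : V, ρ g v = v → v = 0 := by
    intro g hg hne v hv
    by_contra hv0
    have h := haσ g v
    rw [hv, (hker g).1 hg, RingAut.one_apply] at h
    have hev : e v ≠ 0 := by rwa [Ne, AddEquivClass.map_eq_zero_iff]
    have ha1 : a g = 1 := mul_right_cancel₀ hev ((h.symm).trans (one_mul _).symm)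
    refine hne (eq_one_of_fix hρ fun w => e.injective ?_)
    rw [haσ g w, ha1, (hker g).1 hg, one_mul, RingAut.one_apply]
  let l : s.ker →* F :=
    { toFun := fun g => a g
      map_one' := hone.1
      map_mul' := fun g h => by
        show a ((g : G) * h) = _
        rw [(hmul _ _).1, (hker _).1 g.2, RingAut.one_apply] }
  have hl : Function.Injective l := by
    intro g h hgh
    refine Subtype.ext (hρ (LinearEquiv.ext fun w => e.injective ?_))
    rw [haσ, haσ, (hker _).1 g.2, (hker _).1 h.2, show a (g : G) = a (h : G) from hgh]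
  haveI hcyc : IsCyclic s.ker := isCyclic_of_injective_ringHom l hl
  letI : Algebra (ZMod 2) F := ZMod.algebra F 2
  have hfin : Module.finrank (ZMod 2) F = n := by
    have h := Module.natCard_eq_pow_finrank (K := ZMod 2) (V := F)
    rw [Nat.card_eq_fintype_card, hcardF, Nat.card_zmod] at h
    exact (Nat.pow_right_injective le_rfl h).symm
  let fr := FiniteField.frobeniusAlgEquivOfAlgebraic (ZMod 2) F
  have hfr : ∀ τ : F ≃+* F, ∃ i : ℕ, i < n ∧ (∀ x, τ x = (fr ^ i) x) ∧ ∀ x, (fr ^ i) x = x ^ 2 ^ i := by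
    intro τ
    let τ' : F ≃ₐ[ZMod 2] F := AlgEquiv.ofRingEquiv (f := τ) fun c => by
      exact RingHom.congr_fun (RingHom.ext_zmod (τ.toRingHom.comp (algebraMap (ZMod 2) F)) (algebraMap (ZMod 2) F)) c
    obtain ⟨i, hi⟩ := (FiniteField.bijective_frobeniusAlgEquivOfAlgebraic_pow (ZMod 2) F).2 τ'
    refine ⟨i.1, hfin ▸ i.2, fun x => by rw [show fr ^ i.1 = τ' from hi]; rfl, fun x => ?_⟩
    rw [AlgEquiv.coe_pow, FiniteField.coe_frobeniusAlgEquivOfAlgebraic_iterate, ZMod.card]
  have hcomm : ∀ τ τ' : F ≃+* F, τ * τ' = τ' * τ := by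
    intro τ τ'
    obtain ⟨i, -, hi, hi'⟩ := hfr τ
    obtain ⟨j, -, hj, hj'⟩ := hfr τ'
    refine RingEquiv.ext fun x => ?_
    simp only [RingAut.mul_apply, hi, hj, hi', hj', ← pow_mul, mul_comm]
  have hnil : Group.IsNilpotent s.ker := by
    letI := IsCyclic.commGroup (α := s.ker)
    infer_instance
  have hkF : s.ker ≤ Cfsg.fittingSubgroup G := Grp.le_fittingSubgroup inferInstance hnil
  have hσpow : ∀ g (i : ℕ), (∀ x, σ g x = (fr ^ i) x) → ∀ m : ℕ, g ^ m = 1 → n ∣ i * m := by
    intro g i hi m hm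
    rw [← hfin, ← FiniteField.orderOf_frobeniusAlgEquivOfAlgebraic (K := ZMod 2) (L := F),
      orderOf_dvd_iff_pow_eq_one, pow_mul]
    refine AlgEquiv.ext fun x => ?_
    have h1 : σ g ^ m = 1 := by
      show s g ^ m = 1
      rw [← map_pow, hm, map_one]
    have h2 : ∀ (k : ℕ) (x : F), (σ g ^ k) x = ((fr ^ i) ^ k) x := by
      intro k
      induction k with
      | zero => simp
      | succ k ih =>
        intro x
        rw [pow_succ, pow_succ, RingAut.mul_apply, AlgEquiv.mul_apply, hi, ih]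
    rw [← h2, h1, RingAut.one_apply, AlgEquiv.one_apply]
  have hFk : Cfsg.fittingSubgroup G ≤ s.ker := by
    intro g hg
    rw [hker]
    obtain hn1 | hn2 : n = 1 ∨ 2 ≤ n := by omega
    · obtain ⟨i, hi0, hi, -⟩ := hfr (σ g)
      obtain rfl : i = 0 := by omega
      exact RingEquiv.ext fun x => by rw [hi, pow_zero]; rfl
    obtain ⟨p, hp, hpd, hpn, hpi⟩ : ∃ p : ℕ, p.Prime ∧ p ∣ 2 ^ n - 1 ∧ ¬ p ∣ n ∧
        ∀ i, 0 < i → i < n → n ∣ i * Nat.card G → ¬ p ∣ 2 ^ i - 1 := by
      by_cases h6 : n = 6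
      · refine ⟨7, by norm_num, by rw [h6]; norm_num, by rw [h6]; norm_num, fun i hi0 hi hni => ?_⟩
        rw [h6] at hi hni
        have h2i : 2 ∣ i := hG.coprime_two_left.dvd_of_dvd_mul_right ((show 2 ∣ 6 by norm_num).trans hni)
        interval_cases i <;> first | (exfalso; omega) | norm_num
      · obtain ⟨p, hP⟩ := Zsigmondy.exists_primitive (a := 2) (n := n) le_rfl hn2
          (fun h => h6 h.2) (fun h => by
            first
              | omega
              | (obtain ⟨h2, m, hm⟩ := h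
                 rcases Nat.eq_zero_or_pos m with rfl | hm0
                 · simp at hm
                 · have : 2 ∣ 2 ^ m := dvd_pow_self 2 hm0.ne'
                   omega))
        have hpn := order_lt (V := V) hP hn
        exact ⟨p, hP.1, hP.2.1, fun hd => absurd (Nat.le_of_dvd hn hd) (not_le.2 hpn),
          fun i hi0 hi _ => hP.2.2 i hi0 hi⟩
    haveI := Fact.mk hp
    obtain ⟨y, hy⟩ := exists_prime_orderOf_dvd_card' p (hpd.trans (card_sub_one_dvd ht))
    have hpow : ∀ g : G, (∃ k : ℕ, g ^ p ^ k = 1) → σ g = 1 := by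
      rintro g ⟨k, hk⟩
      obtain ⟨i, hi0, hi, -⟩ := hfr (σ g)
      have h1 := hσpow g i hi _ hk
      have h2 := (((Nat.Prime.coprime_iff_not_dvd hp).2 hpn).symm.pow_right k).dvd_of_dvd_mul_right h1
      obtain rfl : i = 0 := Nat.eq_zero_of_dvd_of_lt h2 hi0
      exact RingEquiv.ext fun x => by rw [hi, pow_zero]; rfl
    have hys : y ∈ s.ker := (hker y).2 (hpow y ⟨1, by rw [pow_one, ← hy, pow_orderOf_eq_one]⟩)
    have hyc : y ∈ Cfsg.pCore p G :=
      Cfsg.Agent.Invol.SCNHall.pElement_mem_pCore (hkF hys) ⟨1, by rw [hy, pow_one]⟩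
    rw [← hker]
    revert g
    rw [← SetLike.le_def, Grp.fittingSubgroup_eq_iSup_pCore]
    refine iSup_le fun r g hg => ?_
    obtain ⟨r, hr⟩ := r
    rw [hker]
    by_cases hrp : r = p
    · subst hrp
      obtain ⟨k, hk⟩ := (Grp.pCore_isPGroup (p := r) (G := G)) ⟨g, hg⟩
      exact hpow g ⟨k, congrArg Subtype.val hk⟩
    haveI := Fact.mk hr
    have hgy : g * y = y * g := by
      haveI := Grp.pCore_isNormal (p := r) (G := G)
      haveI := Grp.pCore_isNormal (p := p) (G := G)
      exact Subgroup.commute_of_normal_of_disjoint _ _ inferInstance inferInstance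
        (IsPGroup.disjoint_of_ne r p hrp _ _ Grp.pCore_isPGroup Grp.pCore_isPGroup) g y hg hyc
    have h1 : σ g (a y) = a y := by
      have h := congrArg a hgy
      rw [(hmul g y).1, (hmul y g).1, (hker y).1 hys, RingAut.one_apply, mul_comm (a y)] at h
      exact mul_left_cancel₀ (ha0 g) h
    obtain ⟨i, hi0, hi, hi'⟩ := hfr (σ g)
    by_contra hne
    have hipos : 0 < i := by
      rcases Nat.eq_zero_or_pos i with rfl | h
      · exact absurd (RingEquiv.ext fun x => by rw [hi, pow_zero]; rfl) hne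
      · exact h
    have hay : orderOf (a y) = p := by
      rw [show a y = l ⟨y, hys⟩ from rfl, orderOf_injective l hl, ← hy,
        ← Subgroup.orderOf_coe]
    refine hpi i hipos hi0 (hσpow g i hi _ pow_card_eq_one') ?_
    rw [← hay]
    refine orderOf_dvd_of_pow_eq_one ?_
    rw [hi, hi'] at h1
    rw [pow_sub₀ _ (ha0 y) Nat.one_le_two_pow, h1, pow_one, mul_inv_cancel₀ (ha0 y)]
  have heq : Cfsg.fittingSubgroup G = s.ker := le_antisymm hFk hkF
  rw [heq]
  refine ⟨hcyc, hfix, ?_⟩
  rw [commutator_def, Subgroup.commutator_le]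
  intro g _ h _
  rw [MonoidHom.mem_ker, map_commutatorElement, commutatorElement_eq_one_iff_mul_comm]
  exact hcomm _ _

end Cfsg.Agent.Invol.OddTransitive
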