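import Cfsg.Agent.Lib.Invol.OddTransitive.Small
import Cfsg.Agent.Lib.Recog.HuppertPrimitive
import Cfsg.Agent.S3360
import Cfsg.Agent.S0144

/-!
A linear group of odd order, transitive on the non-zero vectors over the field with two elements,
lies in the semilinear group of a field structure.
-/

set_option autoImplicit false
set_option linter.unusedSectionVars false

namespace Cfsg.Agent.Invol.OddTransitive

open Cfsg Cfsg.Agent Cfsg.Agent.Recog Cfsg.Agent.Recog.HuppertCases Cfsg.Agent.Recog.HuppertPrimitive Polynomial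

universe u v

section general

variable {q : ℕ} [Fact q.Prime] {V : Type v} [AddCommGroup V] [Module (ZMod q) V] [Finite V]
  {G : Type u} [Group G] [Finite G] {ρ : G →* (V ≃ₗ[ZMod q] V)}

/-- A normal `r`-subgroup for a primitive prime divisor gives a semilinear structure. -/
theorem semi_of_pCore [Nontrivial V] (hρ : Function.Injective ρ) {r : ℕ}
    (hP : Zsigmondy.Primitive q (Module.finrank (ZMod q) V) r) (hOr : Cfsg.pCore r G ≠ ⊥) : Semi ρ := by
  classical
  set n := Module.finrank (ZMod q) V with hn_def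
  have hn : 0 < n := Module.finrank_pos
  haveI := Fact.mk hP.1
  have hrn := order_lt hP hn
  have hrq := r_ne_q hP hn
  haveI : CharP (AlgebraicClosure (ZMod q)) q :=
    charP_of_injective_algebraMap (algebraMap (ZMod q) (AlgebraicClosure (ZMod q))).injective q
  have hcast : ∀ p : ℕ, p.Prime → p ≠ q → (p : AlgebraicClosure (ZMod q)) ≠ 0 := fun p hp hne => by
    rw [Ne, CharP.cast_eq_zero_iff _ q, Nat.prime_dvd_prime_iff_eq Fact.out hp]; exact hne.symm
  set R := pCore r G
  have hRn : R.Normal := Grp.pCore_isNormal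
  have hRp : IsPGroup r R := Grp.pCore_isPGroup
  haveI : Nontrivial R := (Subgroup.nontrivial_iff_ne_bot R).mpr hOr
  haveI : Nontrivial (Subgroup.center R) := hRp.center_nontrivial
  have hrc : r ∣ Nat.card (Subgroup.center R) := by
    obtain ⟨k, hk⟩ := (hRp.to_subgroup (Subgroup.center R)).exists_card_eq
    rcases Nat.eq_zero_or_pos k with rfl | hk0
    · exact absurd (hk.trans (pow_zero r)) (Finite.one_lt_card (α := Subgroup.center R)).ne'
    · rw [hk]; exact dvd_pow_self r hk0.ne'
  obtain ⟨z, hz⟩ := exists_prime_orderOf_dvd_card' r hrc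
  set y : G := ((z : R) : G) with hy
  have hyo : orderOf y = r := by rw [hy, Subgroup.orderOf_coe, Subgroup.orderOf_coe, hz]
  obtain ⟨φ, μ, h1, h2, h3, hfix, -⟩ := eigen hρ hn hP hyo
  have hG : HuppertKey.Good φ r 1 y μ :=
    ⟨h1, hP.1, le_rfl, by rw [hyo, pow_one], hrn, hcast r hP.1 hrq, h2, by simpa using h3⟩
  have hcy : ∀ a ∈ R, Commute a (y ^ r ^ (1 - 1)) := fun a ha => by
    simpa [hy, Commute, SemiconjBy] using congrArg Subtype.val (Subgroup.mem_center_iff.mp z.2 ⟨a, ha⟩)
  refine semilinear hRn (fun a ha b hb => hG.comm (hcy a ha) (hcy b hb)) fun W hW => ?_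
  by_contra hne
  push Not at hne
  obtain ⟨hWb, hWt⟩ := hne
  have hyR : y ∈ R := (z : R).2
  have hpw : ∀ h : G, h ∈ Subgroup.zpowers y → h ∈ R := fun h hh => (Subgroup.zpowers_le.mpr hyR) hh
  letI : MulAction (Subgroup.zpowers y) W :=
    { smul := fun h w => ⟨ρ (h : G) (w : V), hW h (hpw h h.2) w w.2⟩
      one_smul := fun w => Subtype.ext (by show ρ ((1 : Subgroup.zpowers y) : G) (w : V) = w; simp)
      mul_smul := fun a b w => Subtype.ext (rho_mul _ _ _) }
  have hyp : IsPGroup r (Subgroup.zpowers y) :=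
    IsPGroup.of_card (n := 1) (by rw [Nat.card_zpowers, hyo, pow_one])
  have hmod := hyp.card_modEq_card_fixedPoints W
  have hfp : MulAction.fixedPoints (Subgroup.zpowers y) W = {0} := by
    ext w
    refine ⟨fun hw => Subtype.ext (hfix _ (congrArg Subtype.val (hw ⟨y, Subgroup.mem_zpowers y⟩))), ?_⟩
    intro hw h
    rw [Set.mem_singleton_iff.mp hw]
    exact Subtype.ext (map_zero (ρ (h : G)))
  rw [hfp, Nat.card_coe_set_eq, Set.ncard_singleton, Module.natCard_eq_pow_finrank (K := ZMod q), Nat.card_zmod] at hmod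
  exact hP.2.2 _ (Nat.pos_of_ne_zero fun h0 => hWb (Submodule.finrank_eq_zero.mp h0)) (Submodule.finrank_lt hWt)
    ((Nat.modEq_iff_dvd' (Nat.one_le_pow _ _ (Fact.out : q.Prime).pos)).mp hmod.symm)

/-- A Sylow subgroup for a primitive prime divisor is cyclic. -/
theorem exists_order_sq [Nontrivial V] (hρ : Function.Injective ρ) {r : ℕ}
    (hP : Zsigmondy.Primitive q (Module.finrank (ZMod q) V) r) (h2 : r ^ 2 ∣ Nat.card G) :
    ∃ y : G, orderOf y = r ^ 2 := by
  classical
  set n := Module.finrank (ZMod q) V with hn_def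
  have hn : 0 < n := Module.finrank_pos
  haveI := Fact.mk hP.1
  have hrn := order_lt hP hn
  have hrq := r_ne_q hP hn
  haveI : CharP (AlgebraicClosure (ZMod q)) q :=
    charP_of_injective_algebraMap (algebraMap (ZMod q) (AlgebraicClosure (ZMod q))).injective q
  have hcast : ∀ p : ℕ, p.Prime → p ≠ q → (p : AlgebraicClosure (ZMod q)) ≠ 0 := fun p hp hne => by
    rw [Ne, CharP.cast_eq_zero_iff _ q, Nat.prime_dvd_prime_iff_eq Fact.out hp]; exact hne.symm
  obtain ⟨P⟩ : Nonempty (Sylow r G) := Sylow.nonempty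
  set R := (P : Subgroup G)
  have hR2 : r ^ 2 ∣ Nat.card R := P.pow_dvd_card_of_pow_dvd_card h2
  have hRp : IsPGroup r R := P.isPGroup'
  haveI : Nontrivial R := Finite.one_lt_card_iff_nontrivial.mp
    ((Nat.one_lt_pow two_ne_zero hP.1.one_lt).trans_le (Nat.le_of_dvd Nat.card_pos hR2))
  haveI : Nontrivial (Subgroup.center R) := hRp.center_nontrivial
  have hrc : r ∣ Nat.card (Subgroup.center R) := by
    obtain ⟨k, hk⟩ := (hRp.to_subgroup (Subgroup.center R)).exists_card_eq
    rcases Nat.eq_zero_or_pos k with rfl | hk0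
    · exact absurd (hk.trans (pow_zero r)) (Finite.one_lt_card (α := Subgroup.center R)).ne'
    · rw [hk]; exact dvd_pow_self r hk0.ne'
  obtain ⟨z, hz⟩ := exists_prime_orderOf_dvd_card' r hrc
  set y : G := ((z : R) : G) with hy
  have hyo : orderOf y = r := by rw [hy, Subgroup.orderOf_coe, Subgroup.orderOf_coe, hz]
  obtain ⟨φ, μ, h1, h2', h3, hfix, hcp⟩ := eigen hρ hn hP hyo
  have hG : HuppertKey.Good φ r 1 y μ :=
    ⟨h1, hP.1, le_rfl, by rw [hyo, pow_one], hrn, hcast r hP.1 hrq, h2', by simpa using h3⟩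
  have hcy : ∀ a : R, Commute (a : G) (y ^ r ^ (1 - 1)) := fun a => by
    simpa [hy, Commute, SemiconjBy] using congrArg Subtype.val (Subgroup.mem_center_iff.mp z.2 a)
  have hd : ∀ a : R, φ (a : G) = Matrix.diagonal fun i => φ (a : G) i i := fun a => hG.central (hcy a)
  let j₀ : Fin n := ⟨0, hn⟩
  let f : R →* AlgebraicClosure (ZMod q) :=
    { toFun := fun a => φ (a : G) j₀ j₀
      map_one' := by simp
      map_mul' := fun a b => by rw [Subgroup.coe_mul, map_mul, hd a, Matrix.diagonal_mul, Matrix.diagonal_apply_eq] }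
  have hf : Function.Injective f := by
    rw [← MonoidHom.ker_eq_bot_iff, Subgroup.eq_bot_iff_forall]
    intro a ha
    by_contra hne
    have hpa : r ∣ orderOf a := by
      obtain ⟨k, hk⟩ := hRp a
      obtain ⟨l, -, hl⟩ := (Nat.dvd_prime_pow hP.1).mp (orderOf_dvd_of_pow_eq_one hk)
      rcases Nat.eq_zero_or_pos l with rfl | hl0
      · exact absurd (orderOf_eq_one_iff.mp (by simpa using hl)) hne
      · rw [hl]; exact dvd_pow_self r hl0.ne'
    set b : R := a ^ (orderOf a / r)
    have hbo : orderOf b = r := by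
      rw [orderOf_pow_orderOf_div (orderOf_pos a).ne' hpa]
    obtain ⟨φ', μ', -, -, -, hfix', -⟩ := eigen hρ hn hP (show orderOf (b : G) = r by rw [Subgroup.orderOf_coe, hbo])
    have hb1 : φ (b : G) j₀ j₀ = 1 := by
      have : f b = 1 := by rw [map_pow, show f a = 1 from ha, one_pow]
      exact this
    have hroot : (LinearMap.charpoly (toEnd ρ (b : G))).IsRoot 1 := by
      have h5 : (φ (b : G)).charpoly.IsRoot 1 := by
        rw [hd b, Matrix.charpoly_diagonal, IsRoot.def, eval_prod]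
        exact Finset.prod_eq_zero (Finset.mem_univ j₀) (by simp [hb1])
      rw [hcp, IsRoot.def, eval_one_map] at h5
      exact (map_eq_zero _).mp h5
    obtain ⟨w, hw⟩ := ((Module.End.hasEigenvalue_iff_isRoot_charpoly _ _).mpr hroot).exists_hasEigenvector
    exact hw.2 (hfix' w (by simpa [toEnd_apply] using hw.apply_eq_smul))
  haveI : IsCyclic R := isCyclic_of_injective_ringHom f hf
  obtain ⟨g, hg⟩ := IsCyclic.exists_ofOrder_eq_natCard (α := R)
  refine ⟨((g ^ (Nat.card R / r ^ 2) : R) : G), ?_⟩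
  rw [Subgroup.orderOf_coe, ← hg, orderOf_pow_orderOf_div (orderOf_pos g).ne' (hg ▸ hR2)]

end general

/-- Groups of order dividing `3 ^ 4 * 5 * 7 ^ 2` are solvable. -/
theorem solvable_small {X : Type u} [Group X] [Finite X] (h : Nat.card X ∣ 3 ^ 4 * 5 * 7 ^ 2)
    : Group.IsSolvable X := by
  classical
  have key : ∀ (Y : Type u) [Group Y] [Finite Y], Nat.card Y ∣ 3 ^ 4 * 7 ^ 2 → Group.IsSolvable Y := by
    intro Y _ _ hY
    obtain ⟨x, y, hx, hy, hxy⟩ := exists_dvd_and_dvd_of_dvd_mul hY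
    obtain ⟨i, -, rfl⟩ := (Nat.dvd_prime_pow Nat.prime_three).mp hx
    obtain ⟨j, -, rfl⟩ := (Nat.dvd_prime_pow (by norm_num : Nat.Prime 7)).mp hy
    exact Cfsg.Agent.S0144.result 3 7 i j Nat.prime_three (by norm_num) hxy
  by_cases h5 : 5 ∣ Nat.card X
  swap
  · refine key X (Nat.Coprime.dvd_of_dvd_mul_left ((Nat.Prime.coprime_iff_not_dvd (by norm_num)).2 h5).symm ?_)
    rwa [show 3 ^ 4 * 5 * 7 ^ 2 = 5 * (3 ^ 4 * 7 ^ 2) by norm_num] at h
  haveI : Fact (Nat.Prime 5) := ⟨by norm_num⟩
  obtain ⟨P⟩ : Nonempty (Sylow 5 X) := Sylow.nonempty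
  have hPc : Nat.card P = 5 := by
    obtain ⟨k, hk⟩ := P.isPGroup'.exists_card_eq
    have h1 : 5 ^ k ∣ 3 ^ 4 * 5 * 7 ^ 2 := hk ▸ (Subgroup.card_subgroup_dvd_card (P : Subgroup X)).trans h
    have hk1 : k ≤ 1 := by
      by_contra hk2
      have := (pow_dvd_pow 5 (show 2 ≤ k by omega)).trans h1
      norm_num at this
    interval_cases k
    · exact absurd (P.pow_dvd_card_of_pow_dvd_card (n := 1) (by simpa using h5)) (by rw [hk]; norm_num)
    · simpa using hk
  haveI : IsCyclic P := isCyclic_of_prime_card hPc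
  have hN : Subgroup.normalizer (P : Set X) ≤ Subgroup.centralizer (P : Set X) := by
    intro g hg
    have h1 : orderOf ((P : Subgroup X).normalizerMonoidHom ⟨g, hg⟩) ∣ 4 := by
      refine (orderOf_dvd_natCard _).trans ?_
      rw [IsCyclic.card_mulAut, hPc, Nat.totient_prime (by norm_num)]
    have h2 : orderOf ((P : Subgroup X).normalizerMonoidHom ⟨g, hg⟩) ∣ Nat.card X :=
      (orderOf_map_dvd _ _).trans ((Subgroup.orderOf_mk g hg).symm ▸ orderOf_dvd_natCard g)
    have h4 : Nat.Coprime 4 (Nat.card X) :=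
      (by norm_num : Nat.Coprime 4 (3 ^ 4 * 5 * 7 ^ 2)).coprime_dvd_right h
    have h3 : (P : Subgroup X).normalizerMonoidHom ⟨g, hg⟩ = 1 :=
      orderOf_eq_one_iff.1 (Nat.eq_one_of_dvd_coprimes h4 h1 h2)
    have : (⟨g, hg⟩ : Subgroup.normalizer (P : Set X)) ∈ (P : Subgroup X).normalizerMonoidHom.ker := h3
    rw [Subgroup.normalizerMonoidHom_ker] at this
    exact this
  have hc := MonoidHom.ker_transferSylow_isComplement' P hN
  set K := (MonoidHom.transferSylow P hN).ker
  have hKP := hc.card_mul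
  rw [hPc] at hKP
  have hK : Nat.card K ∣ 3 ^ 4 * 7 ^ 2 := by
    apply Nat.dvd_of_mul_dvd_mul_right (by norm_num : 0 < 5)
    rw [hKP]
    exact h.trans (dvd_of_eq (by norm_num))
  haveI := key K hK
  have h1 : Nat.card (X ⧸ K) = 5 := by
    have := K.card_mul_index
    rw [Subgroup.index_eq_card, ← hKP] at this
    exact Nat.eq_of_mul_eq_mul_left Nat.card_pos this
  haveI : IsCyclic (X ⧸ K) := isCyclic_of_prime_card h1
  haveI : Group.IsSolvable (X ⧸ K) := Group.isSolvable_of_comm fun a b => IsCyclic.commGroup.mul_comm a b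
  exact Group.isSolvable_of_ker_le_range K.subtype (QuotientGroup.mk' K) (by simp)

end Cfsg.Agent.Invol.OddTransitive
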