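import Cfsg.Agent.Lib.Invol.OddTransitive.Lift
import Cfsg.Agent.Lib.Char.Basic
import Cfsg.Agent.Lib.Char.Integral

/-!
A small faithful irreducible constituent of an irreducible representation over the field with two
elements, found by descent along the squaring map.
-/

set_option autoImplicit false
set_option linter.unusedSectionVars false

namespace Cfsg.Agent.Invol.OddTransitive

open Cfsg Cfsg.Agent.Char Cfsg.Agent.Block

universe u

variable {G : Type u} [Group G] {n : ℕ} {k : Type} [Field k] [CharP k 2]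

/-- A nonzero invariant subspace over an extension, stable under squaring, is everything. -/
theorem descent (R : G →* Matrix (Fin n) (Fin n) (ZMod 2))
    (hirr : ∀ W : Submodule (ZMod 2) (Fin n → ZMod 2), (∀ g, ∀ w ∈ W, (R g).mulVec w ∈ W) → W = ⊥ ∨ W = ⊤)
    (U : Submodule k (Fin n → k))
    (hU : ∀ g, ∀ v ∈ U, ((R g).map (ZMod.castHom dvd_rfl k)).mulVec v ∈ U)
    (hF : ∀ v ∈ U, (fun i => v i ^ 2) ∈ U) (hne : U ≠ ⊥) : U = ⊤ := by
  classical
  set c : ZMod 2 →+* k := ZMod.castHom dvd_rfl k
  obtain ⟨u, hu, hu0, hmin⟩ : ∃ u ∈ U, u ≠ 0 ∧ ∀ v ∈ U, v ≠ 0 →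
      (Finset.univ.filter fun i => u i ≠ 0).card ≤ (Finset.univ.filter fun i => v i ≠ 0).card := by
    have hex : ∃ m, ∃ u ∈ U, u ≠ 0 ∧ (Finset.univ.filter fun i => u i ≠ 0).card = m := by
      obtain ⟨u, hu, hu0⟩ := (Submodule.ne_bot_iff U).1 hne
      exact ⟨_, u, hu, hu0, rfl⟩
    obtain ⟨u, hu, hu0, hm⟩ := Nat.find_spec hex
    refine ⟨u, hu, hu0, fun v hv hv0 => hm ▸ Nat.find_min' hex ⟨v, hv, hv0, rfl⟩⟩
  obtain ⟨j, hj⟩ := Function.ne_iff.1 hu0
  set w := (u j)⁻¹ • u
  have hwU : w ∈ U := U.smul_mem _ hu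
  have hwj : w j = 1 := by simp [w, inv_mul_cancel₀ hj]
  have hw2 : ∀ i, w i ^ 2 = w i := by
    set z : Fin n → k := (fun i => w i ^ 2) - w
    have hz : z ∈ U := U.sub_mem (hF w hwU) hwU
    by_contra hno
    push Not at hno
    obtain ⟨i, hi⟩ := hno
    have hz0 : z ≠ 0 := fun h => hi (sub_eq_zero.1 (congrFun h i))
    have := hmin z hz hz0
    refine absurd this (not_le.2 (Finset.card_lt_card (Finset.ssubset_iff_of_subset ?_ |>.2 ⟨j, ?_, ?_⟩)))
    · intro i hi
      simp only [Finset.mem_filter, Finset.mem_univ, true_and] at hi ⊢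
      intro h0
      exact hi (by simp [z, w, h0])
    · simp only [Finset.mem_filter, Finset.mem_univ, true_and]
      exact hj
    · simp [z, hwj]
  have hex : ∀ i, ∃ a : ZMod 2, c a = w i := by
    intro i
    have h : w i * (w i - 1) = 0 := by
      rw [mul_sub, mul_one, ← sq, hw2, sub_self]
    rcases mul_eq_zero.1 h with h | h
    · exact ⟨0, by rw [map_zero, h]⟩
    · exact ⟨1, by rw [map_one, sub_eq_zero.1 h]⟩
  choose a ha using hex
  let S : Submodule (ZMod 2) (Fin n → ZMod 2) :=
    { carrier := {e | (fun i => c (e i)) ∈ U}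
      add_mem' := fun {x y} hx hy => by
        have := U.add_mem hx hy
        simpa [Pi.add_def] using this
      zero_mem' := by
        simp only [Set.mem_ofPred_eq, Pi.zero_apply, map_zero]
        exact U.zero_mem
      smul_mem' := fun r x hx => by
        have := U.smul_mem (c r) hx
        simpa [Pi.smul_def] using this }
  have hS : S = ⊤ := by
    refine (hirr S fun g e he => ?_).resolve_left fun hbot => ?_
    · show (fun i => c ((R g).mulVec e i)) ∈ U
      have := hU g _ he
      have heq : ((R g).map c).mulVec (fun i => c (e i)) = fun i => c ((R g).mulVec e i) := by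
        funext i
        exact (RingHom.map_mulVec c (R g) e i).symm
      rwa [heq] at this
    · have hmem : a ∈ S := by
        show (fun i => c (a i)) ∈ U
        simpa [ha] using hwU
      rw [hbot, Submodule.mem_bot] at hmem
      have := ha j
      rw [hmem, Pi.zero_apply, map_zero, hwj] at this
      exact zero_ne_one this
  rw [eq_top_iff, ← (Pi.basisFun k (Fin n)).span_eq, Submodule.span_le]
  rintro _ ⟨i, rfl⟩
  have : (Pi.single i 1 : Fin n → ZMod 2) ∈ S := hS ▸ Submodule.mem_top
  have h2 : (fun l => c ((Pi.single i 1 : Fin n → ZMod 2) l)) = Pi.basisFun k (Fin n) i := by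
    funext l
    simp [Pi.basisFun_apply, Pi.single_apply, apply_ite c]
  exact h2 ▸ this

/-- A faithful irreducible constituent of degree the whole or at most half of the dimension. -/
theorem exists_small_rep (R : G →* Matrix (Fin n) (Fin n) (ZMod 2)) (hn : 0 < n)
    (hR : Function.Injective R)
    (hirr : ∀ W : Submodule (ZMod 2) (Fin n → ZMod 2), (∀ g, ∀ w ∈ W, (R g).mulVec w ∈ W) → W = ⊥ ∨ W = ⊤) :
    ∃ (U : Submodule k (Fin n → k)) (σ : Representation k G U), Nontrivial U ∧
      (∀ S : Submodule k U, (∀ g, ∀ v ∈ S, σ g v ∈ S) → S = ⊥ ∨ S = ⊤) ∧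
      (∀ g, σ g = 1 → g = 1) ∧ (Module.finrank k U = n ∨ 2 * Module.finrank k U ≤ n) := by
  classical
  set c : ZMod 2 →+* k := ZMod.castHom dvd_rfl k with hc
  let τ : G → Matrix (Fin n) (Fin n) k := fun g => (R g).map c
  have hτmul : ∀ g h, τ (g * h) = τ g * τ h := fun g h => by
    simp only [τ, map_mul, Matrix.map_mul]
  have hτ1 : τ 1 = 1 := by
    simp only [τ, map_one, Matrix.map_one _ (map_zero c) (map_one c)]
  let F : (Fin n → k) → (Fin n → k) := fun v i => v i ^ 2
  have hFτ : ∀ g v, F ((τ g).mulVec v) = (τ g).mulVec (F v) := by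
    intro g v
    funext i
    simp only [F, Matrix.mulVec, dotProduct, τ, Matrix.map_apply]
    rw [sum_pow_char 2]
    refine Finset.sum_congr rfl fun l _ => ?_
    rw [mul_pow, ← map_pow, ZMod.pow_card]
  have hex : ∃ m, ∃ U : Submodule k (Fin n → k), U ≠ ⊥ ∧ (∀ g, ∀ v ∈ U, (τ g).mulVec v ∈ U) ∧
      Module.finrank k U = m := by
    refine ⟨_, ⊤, ?_, fun g v _ => Submodule.mem_top, rfl⟩
    haveI : Nonempty (Fin n) := ⟨⟨0, hn⟩⟩
    exact top_ne_bot
  obtain ⟨U, hU0, hUinv, hUdim⟩ := Nat.find_spec hex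
  have hmin : ∀ W : Submodule k (Fin n → k), W ≠ ⊥ → (∀ g, ∀ v ∈ W, (τ g).mulVec v ∈ W) →
      Module.finrank k U ≤ Module.finrank k W := fun W h1 h2 => hUdim ▸ Nat.find_min' hex ⟨W, h1, h2, rfl⟩
  let σ : Representation k G U :=
    { toFun := fun g => (Matrix.toLin' (τ g)).restrict (fun v hv => by
        rw [Matrix.toLin'_apply]; exact hUinv g v hv)
      map_one' := LinearMap.ext fun v => Subtype.ext (by
        simp [hτ1])
      map_mul' := fun g h => LinearMap.ext fun v => Subtype.ext (by
        simp [hτmul, Matrix.mulVec_mulVec]) }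
  have hσ : ∀ g (v : U), (σ g v : Fin n → k) = (τ g).mulVec v := fun g v => rfl
  have hcinj : Function.Injective c := c.injective
  refine ⟨U, σ, Submodule.nontrivial_iff_ne_bot.2 hU0, fun S hS => ?_, fun g hg => ?_, ?_⟩
  · by_cases hS0 : S = ⊥
    · exact Or.inl hS0
    right
    have h := hmin (S.map U.subtype) (fun h => hS0 (Submodule.map_injective_of_injective
      U.injective_subtype (by rw [h, Submodule.map_bot]))) (fun g v hv => by
        obtain ⟨s, hs, rfl⟩ := hv
        exact ⟨_, hS g s hs, hσ g s⟩)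
    rw [Submodule.finrank_map_subtype_eq] at h
    exact Submodule.eq_top_of_finrank_eq (le_antisymm (Submodule.finrank_le S) h)
  · let X : Submodule k (Fin n → k) := ⨅ h : {h : G // σ h = 1}, LinearMap.ker (Matrix.toLin' (τ h) - 1)
    have hX : ∀ v, v ∈ X ↔ ∀ h : G, σ h = 1 → (τ h).mulVec v = v := by
      intro v
      simp [X, Submodule.mem_iInf, sub_eq_zero, Matrix.toLin'_apply]
    have hXtop : X = ⊤ := by
      refine descent R hirr X (fun a v hv => ?_) (fun v hv => ?_) ?_
      · rw [hX] at hv ⊢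
        intro h hh
        have h1 : σ (a⁻¹ * h * a) = 1 := by
          rw [map_mul, map_mul, hh, mul_one, ← map_mul, inv_mul_cancel, map_one]
        have h2 : (τ (a * (a⁻¹ * h * a))).mulVec v = (τ a).mulVec v := by
          rw [hτmul, ← Matrix.mulVec_mulVec, hv _ h1]
        rw [show a * (a⁻¹ * h * a) = h * a by group, hτmul, ← Matrix.mulVec_mulVec] at h2
        exact h2
      · rw [hX] at hv ⊢
        intro h hh
        show (τ h).mulVec (F v) = F v
        rw [← hFτ, hv h hh]
      · refine fun h0 => hU0 (eq_bot_iff.2 (h0 ▸ fun v hv => (hX v).2 fun h hh => ?_))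
        exact congrArg Subtype.val (LinearMap.congr_fun hh ⟨v, hv⟩)
    refine hR ?_
    rw [map_one]
    ext i l
    have h := congrFun ((hX _).1 (hXtop ▸ Submodule.mem_top : (Pi.single l 1 : Fin n → k) ∈ X) g hg) i
    rw [Matrix.mulVec_single_one] at h
    apply hcinj
    rw [Matrix.one_apply, apply_ite c, map_one, map_zero]
    simpa [τ, Pi.single_apply] using h
  · let b := Module.finBasis k U
    let W : Submodule k (Fin n → k) := Submodule.span k (Set.range fun i => F (b i : Fin n → k))
    have hFW : ∀ v ∈ U, F v ∈ W := by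
      intro v hv
      have e : v = ∑ i, b.repr ⟨v, hv⟩ i • (b i : Fin n → k) := by
        have := congrArg (U.subtype) (b.sum_repr ⟨v, hv⟩)
        rw [map_sum] at this
        exact this.symm
      have e2 : F v = ∑ i, (b.repr ⟨v, hv⟩ i) ^ 2 • F (b i : Fin n → k) := by
        funext l
        conv_lhs => rw [e]
        simp only [F, Finset.sum_apply, Pi.smul_apply, smul_eq_mul]
        rw [sum_pow_char 2]
        exact Finset.sum_congr rfl fun i _ => mul_pow _ _ _
      rw [e2]
      exact Submodule.sum_mem _ fun i _ => W.smul_mem _ (Submodule.subset_span ⟨i, rfl⟩)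
    have hWinv : ∀ g, ∀ v ∈ W, (τ g).mulVec v ∈ W := by
      intro g
      have : W ≤ W.comap (Matrix.toLin' (τ g)) := by
        refine Submodule.span_le.2 ?_
        rintro _ ⟨i, rfl⟩
        show (τ g).mulVec (F (b i : Fin n → k)) ∈ W
        rw [← hFτ]
        exact hFW _ (hUinv g _ (b i).2)
      exact fun v hv => this hv
    have hW0 : W ≠ ⊥ := by
      intro h0
      obtain ⟨v, hv, hv0⟩ := (Submodule.ne_bot_iff U).1 hU0
      have := hFW v hv
      rw [h0, Submodule.mem_bot] at this
      refine hv0 (funext fun i => ?_)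
      exact eq_zero_of_pow_eq_zero (congrFun this i)
    have hWdim : Module.finrank k W = Module.finrank k U := le_antisymm
      ((finrank_range_le_card _).trans (by rw [Fintype.card_fin])) (hmin W hW0 hWinv)
    by_cases hdisj : U ⊓ W = ⊥
    · right
      have h := Submodule.finrank_sup_add_finrank_inf_eq U W
      rw [hdisj, finrank_bot, add_zero, hWdim] at h
      have h2 := Submodule.finrank_le (U ⊔ W)
      rw [Module.finrank_fin_fun] at h2
      omega
    · left
      have h := hmin (U ⊓ W) hdisj (fun g v hv => ⟨hUinv g v hv.1, hWinv g v hv.2⟩)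
      have hUW : U ⊓ W = U := Submodule.eq_of_le_of_finrank_le inf_le_left h
      have hUW' : U = W := Submodule.eq_of_le_of_finrank_le (inf_eq_left.1 hUW) hWdim.le
      have htop : U = ⊤ := descent R hirr U hUinv (fun v hv => hUW' ▸ hFW v hv) hU0
      rw [htop, finrank_top, Module.finrank_fin_fun]

/-- An irreducible linear group of odd order over the field with two elements has a faithful
irreducible character of odd degree, the dimension or at most half of it. -/
theorem exists_small_char [Finite G] (hG : Odd (Nat.card G)) (R : G →* Matrix (Fin n) (Fin n) (ZMod 2))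
    (hn : 0 < n) (hR : Function.Injective R)
    (hirr : ∀ W : Submodule (ZMod 2) (Fin n → ZMod 2), (∀ g, ∀ w ∈ W, (R g).mulVec w ∈ W) → W = ⊥ ∨ W = ⊤) :
    ∃ (χ : G → ℂ) (d : ℕ), IsIrrCharacter G χ ∧ χ 1 = d ∧ (∀ g, χ g = χ 1 → g = 1) ∧ Odd d ∧
      (d = n ∨ 2 * d ≤ n) := by
  obtain ⟨V, hV⟩ := TIFixed.exists_valuation Nat.prime_two
  haveI : CharP (IsLocalRing.ResidueField V) 2 := (CharP.charP_iff_prime_eq_zero Nat.prime_two).2 (by
    rw [← map_natCast (IsLocalRing.residue V)]
    refine (IsLocalRing.residue_eq_zero_iff _).2 ?_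
    rw [V.valuation_lt_one_iff]
    exact hV)
  obtain ⟨U, σ, hnt, hirrU, hfaith, hdim⟩ := exists_small_rep (k := IsLocalRing.ResidueField V) R hn hR hirr
  haveI := hnt
  obtain ⟨χ, hχ, h1, hf⟩ := exists_char hG V hV σ hirrU hfaith
  haveI := Fintype.ofFinite G
  exact ⟨χ, _, hχ, h1, hf, hG.of_dvd_nat (IsIrr.degree_dvd_card hχ h1), hdim⟩

end Cfsg.Agent.Invol.OddTransitive
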