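import Cfsg.Agent.Lib.Invol.OddTransitive.Main

/-!
A linear group over the field with two elements with a normal subgroup of odd order transitive on the non-zero vectors
lies in the semilinear group: the Fitting subgroup of the transitive subgroup is cyclic and irreducible.
-/

set_option autoImplicit false
set_option linter.unusedSectionVars false

namespace Cfsg.Agent.Invol.OddTransitive

open Cfsg Cfsg.Agent Cfsg.Agent.Recog Cfsg.Agent.Recog.HuppertCases

universe u v

variable {V : Type v} [AddCommGroup V] [Module (ZMod 2) V] [Finite V]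
  {G : Type u} [Group G] [Finite G] {ρ : G →* (V ≃ₗ[ZMod 2] V)}

/-- The Fitting subgroup of an odd transitive group is irreducible. -/
theorem fitting_irred [Nontrivial V] (hG : Odd (Nat.card G)) (hρ : Function.Injective ρ) (ht : Trans ρ) :
    Irred ρ (Cfsg.fittingSubgroup G) := by
  classical
  intro W₀ hW₀
  by_contra hne
  push Not at hne
  obtain ⟨hb, ht0⟩ := hne
  obtain ⟨hcyc, hfpf, -⟩ := main hG hρ ht
  set n := Module.finrank (ZMod 2) V with hn_def
  set A := Cfsg.fittingSubgroup G with hA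
  haveI hAn : A.Normal := Grp.fittingSubgroup_isNormal
  -- a minimal invariant subspace
  obtain ⟨W, hW, hWb, hmin⟩ : ∃ W : Submodule (ZMod 2) V, (∀ a ∈ A, ∀ w ∈ W, ρ a w ∈ W) ∧ W ≠ ⊥ ∧
      ∀ W' : Submodule (ZMod 2) V, (∀ a ∈ A, ∀ w ∈ W', ρ a w ∈ W') → W' ≠ ⊥ →
        Module.finrank (ZMod 2) W ≤ Module.finrank (ZMod 2) W' := by
    have hex : ∃ d : ℕ, ∃ W : Submodule (ZMod 2) V, (∀ a ∈ A, ∀ w ∈ W, ρ a w ∈ W) ∧ W ≠ ⊥ ∧
        Module.finrank (ZMod 2) W = d := ⟨_, W₀, hW₀, hb, rfl⟩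
    obtain ⟨W, h1, h2, h3⟩ := Nat.find_spec hex
    exact ⟨W, h1, h2, fun W' g1 g2 => h3 ▸ Nat.find_min' hex ⟨W', g1, g2, rfl⟩⟩
  set d := Module.finrank (ZMod 2) W with hd_def
  obtain ⟨w, hw, hw0⟩ := Submodule.exists_mem_ne_zero_of_ne_bot hWb
  have hd0 : d ≠ 0 := fun h => hWb (Submodule.finrank_eq_zero.1 h)
  have hdlt : d < n := lt_of_le_of_lt (hmin W₀ hW₀ hb) (Submodule.finrank_lt ht0)
  -- a translate meeting it trivially
  obtain ⟨v, hv⟩ : ∃ v : V, v ∉ W := by
    by_contra h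
    push Not at h
    exact hdlt.ne (by rw [hd_def, show W = ⊤ from Submodule.eq_top_iff'.2 h, finrank_top])
  obtain ⟨g, hg⟩ := ht w v hw0 (fun h => hv (h ▸ W.zero_mem))
  set W' := W.map (ρ g : V →ₗ[ZMod 2] V) with hW'
  have hW'inv : ∀ a ∈ A, ∀ x ∈ W', ρ a x ∈ W' := by
    rintro a ha _ ⟨y, hy, rfl⟩
    refine ⟨ρ (g⁻¹ * a * g) y, hW _ (by simpa using hAn.conj_mem a ha g⁻¹) y hy, ?_⟩
    change ρ g (ρ (g⁻¹ * a * g) y) = ρ a (ρ g y)
    rw [← rho_mul, ← rho_mul]
    congr 2
    group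
  have hd' : Module.finrank (ZMod 2) W' = d :=
    (Submodule.equivMapOfInjective _ (ρ g).injective W).finrank_eq.symm
  have hinf : W ⊓ W' = ⊥ := by
    by_contra h
    have h1 := hmin (W ⊓ W') (fun a ha x hx => ⟨hW a ha x hx.1, hW'inv a ha x hx.2⟩) h
    have h2 : W ⊓ W' = W := Submodule.eq_of_le_of_finrank_le inf_le_left h1
    have h3 : W ≤ W' := h2 ▸ inf_le_right
    have h4 : W = W' := Submodule.eq_of_le_of_finrank_le h3 hd'.le
    exact hv (h4 ▸ ⟨w, hw, hg⟩)
  have h2d : 2 * d ≤ n := by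
    have h := Submodule.finrank_sup_add_finrank_inf_eq W W'
    rw [hinf, finrank_bot, add_zero, ← hd_def, hd'] at h
    have := Submodule.finrank_le (W ⊔ W')
    omega
  -- few elements in the Fitting subgroup
  have hAcard : Nat.card A ≤ 2 ^ d - 1 := by
    haveI : Finite W := inferInstance
    have hmap : ∀ a : A, ρ a w ∈ W ∧ ρ a w ≠ 0 := fun a => ⟨hW a a.2 w hw, fun h => hw0 ((ρ (a : G)).map_eq_zero_iff.1 h)⟩
    have hle := Nat.card_le_card_of_injective (fun a : A => (⟨⟨ρ a w, (hmap a).1⟩, fun h => (hmap a).2 (congrArg Subtype.val h)⟩ :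
        {x : W // x ≠ 0})) (fun a b h => by
      by_contra hab
      have h' : ρ (a : G) w = ρ (b : G) w := congrArg (fun x => ((x.1 : W) : V)) h
      refine hw0 (hfpf ((b : G)⁻¹ * a) (A.mul_mem (A.inv_mem b.2) a.2) (fun h1 => hab ?_) w ?_)
      · exact Subtype.ext (inv_mul_eq_one.1 h1).symm
      · rw [rho_mul, h', rho_inv'])
    refine hle.trans (le_of_eq ?_)
    haveI : Fintype W := Fintype.ofFinite _
    rw [Nat.card_eq_fintype_card, Fintype.card_subtype_compl, Fintype.card_subtype_eq,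
      ← Nat.card_eq_fintype_card, Module.natCard_eq_pow_finrank (K := ZMod 2), Nat.card_zmod]
  -- the index is at most the number of field automorphisms
  obtain ⟨F, _, _, e, hF⟩ := semi_of_odd hG hρ ht
  choose a σ haσ using hF
  have hcardF : Fintype.card F = 2 ^ n := by
    rw [← Nat.card_eq_fintype_card, ← Nat.card_congr e.toEquiv, card_V (q := 2)]
  haveI : CharP F 2 := by
    obtain ⟨r, hr⟩ := CharP.exists F
    haveI := hr
    obtain ⟨m, hrp, hm⟩ := FiniteField.card F r
    rw [hcardF] at hm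
    have h2 : 2 ∣ r ^ (m : ℕ) := hm ▸ dvd_pow_self 2 (by omega : n ≠ 0)
    have : r = 2 := ((Nat.prime_dvd_prime_iff_eq Nat.prime_two hrp).1 (Nat.prime_two.dvd_of_dvd_pow h2)).symm
    exact this ▸ hr
  have ha0 : ∀ g, a g ≠ 0 := by
    intro g h
    have := haσ g w
    rw [h, zero_mul, AddEquivClass.map_eq_zero_iff, LinearEquiv.map_eq_zero_iff] at this
    exact hw0 this
  have huniq : ∀ g (a' : F) (σ' : F ≃+* F), (∀ x, e (ρ g x) = a' * σ' (e x)) → a' = a g ∧ σ' = σ g := by
    intro g a' σ' h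
    have h1 := (h (e.symm 1)).symm.trans (haσ g (e.symm 1))
    simp only [AddEquiv.apply_symm_apply, map_one, mul_one] at h1
    refine ⟨h1, RingEquiv.ext fun x => ?_⟩
    have h2 := (h (e.symm x)).symm.trans (haσ g (e.symm x))
    simp only [AddEquiv.apply_symm_apply] at h2
    rw [h1] at h2
    exact mul_left_cancel₀ (ha0 g) h2
  have hmul : ∀ g h, a (g * h) = a g * σ g (a h) ∧ σ (g * h) = σ g * σ h := by
    intro g h
    obtain ⟨h1, h2⟩ := huniq (g * h) (a g * σ g (a h)) (σ g * σ h) (fun x => by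
      rw [rho_mul, haσ, haσ, map_mul, mul_assoc]
      rfl)
    exact ⟨h1.symm, h2.symm⟩
  have hone : σ 1 = 1 := ((huniq 1 1 1 (fun x => by simp)).2).symm
  let s : G →* (F ≃+* F) := { toFun := σ, map_one' := hone, map_mul' := fun g h => (hmul g h).2 }
  let l : s.ker →* F :=
    { toFun := fun g => a g
      map_one' := ((huniq 1 1 1 (fun x => by simp)).1).symm
      map_mul' := fun g h => by
        show a ((g : G) * h) = _
        rw [(hmul _ _).1, show σ (g : G) = 1 from MonoidHom.mem_ker.1 g.2, RingAut.one_apply] }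
  have hl : Function.Injective l := by
    intro g h hgh
    refine Subtype.ext (hρ (LinearEquiv.ext fun x => e.injective ?_))
    rw [haσ, haσ, show σ (g : G) = 1 from MonoidHom.mem_ker.1 g.2, show σ (h : G) = 1 from MonoidHom.mem_ker.1 h.2,
      show a (g : G) = a (h : G) from hgh]
  haveI : IsCyclic s.ker := isCyclic_of_injective_ringHom l hl
  have hnil : Group.IsNilpotent s.ker := by
    letI := IsCyclic.commGroup (α := s.ker)
    infer_instance
  have hkA : Nat.card s.ker ≤ Nat.card A :=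
    Subgroup.card_le_of_le (Grp.le_fittingSubgroup (MonoidHom.normal_ker s) hnil)
  letI : Algebra (ZMod 2) F := ZMod.algebra F 2
  have hfin : Module.finrank (ZMod 2) F = n := by
    have h := Module.natCard_eq_pow_finrank (K := ZMod 2) (V := F)
    rw [Nat.card_eq_fintype_card, hcardF, Nat.card_zmod] at h
    exact (Nat.pow_right_injective le_rfl h).symm
  have hrange : Nat.card s.range ≤ n := by
    let toA : (F ≃+* F) → (F ≃ₐ[ZMod 2] F) := fun τ => AlgEquiv.ofRingEquiv (f := τ) fun c =>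
      RingHom.congr_fun (RingHom.ext_zmod (τ.toRingHom.comp (algebraMap (ZMod 2) F)) (algebraMap (ZMod 2) F)) c
    have hinj : Function.Injective (fun τ : s.range => toA τ.1) := fun x y h => Subtype.ext (RingEquiv.ext fun z => by
      exact (AlgEquiv.congr_fun h z : toA x.1 z = toA y.1 z))
    refine (Nat.card_le_card_of_injective _ hinj).trans (le_of_eq ?_)
    rw [← Nat.card_eq_of_bijective _ (FiniteField.bijective_frobeniusAlgEquivOfAlgebraic_pow (ZMod 2) F),
      Nat.card_fin, hfin]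
  have hG' : Nat.card G ≤ (2 ^ d - 1) * n := by
    rw [← Subgroup.card_mul_index s.ker, Subgroup.index_ker]
    exact Nat.mul_le_mul (hkA.trans hAcard) hrange
  have hlow : 2 ^ n - 1 ≤ Nat.card G := Nat.le_of_dvd Nat.card_pos (card_sub_one_dvd ht)
  obtain ⟨D, hD⟩ : ∃ D, 2 ^ d = D := ⟨_, rfl⟩
  have h1 : D * D ≤ 2 ^ n := by
    rw [← hD, ← pow_add]
    exact Nat.pow_le_pow_right (by norm_num) (by omega)
  have hm := Nat.lt_two_pow_self (n := n - d)
  have h3 : 2 ^ n = D * 2 ^ (n - d) := by rw [← hD, ← pow_add]; congr 1; omega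
  obtain ⟨P, hP⟩ : ∃ P, 2 ^ (n - d) = P := ⟨_, rfl⟩
  rw [hP] at hm h3
  have hD2 : 2 ≤ D := by rw [← hD]; exact (Nat.le_self_pow hd0 2)
  rw [hD] at hG'
  have h4 : D * P - 1 ≤ (D - 1) * n := h3 ▸ hlow.trans hG'
  -- `n ≤ 2 (n - d) ≤ 2 ^ (n - d)`
  have h5 : n ≤ P := by
    have : 2 * (n - d) ≤ 2 ^ (n - d) := by
      obtain ⟨m, hm'⟩ : ∃ m, n - d = m + 1 := ⟨n - d - 1, by omega⟩
      rw [hm', pow_succ]
      have := Nat.lt_two_pow_self (n := m)
      omega
    omega
  have h6 : (D - 1) * n ≤ (D - 1) * P := Nat.mul_le_mul_left _ h5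
  have h7 : (D - 1) * P + P = D * P := by
    rw [← Nat.succ_mul]; congr 1; omega
  have h8 : 2 ≤ P := by omega
  omega

/-- A linear group with a normal odd subgroup transitive on the non-zero vectors is semilinear. -/
theorem semi_of_normal_odd [Nontrivial V] (hρ : Function.Injective ρ) {R : Subgroup G} (hR : R.Normal)
    (hodd : Odd (Nat.card R)) (ht : Trans (ρ.comp R.subtype)) : Semi ρ := by
  have hinj : Function.Injective (ρ.comp R.subtype) := hρ.comp Subtype.val_injective
  obtain ⟨hcyc, -, -⟩ := main hodd hinj ht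
  haveI : (Cfsg.fittingSubgroup R).Characteristic := Grp.instCharFitting
  set A := (Cfsg.fittingSubgroup R).map R.subtype with hA
  have hAn : A.Normal := ConjAct.normal_of_characteristic_of_normal
  refine semilinear hAn ?_ fun W hW => ?_
  · rintro _ ⟨a, ha, rfl⟩ _ ⟨b, hb, rfl⟩
    letI := IsCyclic.commGroup (α := Cfsg.fittingSubgroup R)
    have h : (⟨a, ha⟩ : Cfsg.fittingSubgroup R) * ⟨b, hb⟩ = ⟨b, hb⟩ * ⟨a, ha⟩ := mul_comm _ _
    exact congrArg (fun x : Cfsg.fittingSubgroup R => ((x : R) : G)) h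
  · exact fitting_irred hodd hinj ht W fun a ha w hw => hW _ (Subgroup.mem_map_of_mem _ ha) w hw

end Cfsg.Agent.Invol.OddTransitive
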