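import Mathlib
import Cfsg.Agent.Lib.Block.TIFixed
import Cfsg.Agent.Lib.Char.Det
import Cfsg.Agent.Lib.Char.Complete

/-!
Irreducible representations of groups of odd order in characteristic two lift to ordinary ones.
-/

set_option autoImplicit false
set_option linter.unusedSectionVars false

namespace Cfsg.Agent.Invol.OddTransitive

open Cfsg Cfsg.Agent.Char Cfsg.Agent.Block

universe u

variable {G : Type u} [Group G]

/-- The orthogonality of the coefficients of an irreducible matrix representation. -/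
theorem coeff_orth [Fintype G] {n : ℕ} (A : G →* Matrix (Fin n) (Fin n) ℂ)
    (ρ : Representation ℂ G (Fin n → ℂ)) (hρ : ∀ g, ρ g = Matrix.toLin' (A g))
    [ρ.IsIrreducible] :
    ∃ c : Fin n → Fin n → ℂ, ∀ i j a b : Fin n,
      ∑ g : G, A g⁻¹ i j * A g a b = if a = j then c i b else 0 := by
  classical
  have key : ∀ i b : Fin n, ∃ c : ℂ, ∀ j a : Fin n,
      ∑ g : G, A g⁻¹ i j * A g a b = if a = j then c else 0 := by
    intro i b
    set T : Matrix (Fin n) (Fin n) ℂ := Matrix.of fun a j => ∑ g : G, A g⁻¹ i j * A g a b with hT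
    have hcomm : ∀ h, A h * T = T * A h := by
      intro h
      ext a j
      simp only [hT, Matrix.mul_apply, Matrix.of_apply, Finset.mul_sum, Finset.sum_mul]
      rw [Finset.sum_comm]
      conv_rhs => rw [Finset.sum_comm]
      refine Fintype.sum_equiv (Equiv.mulLeft h) _ _ fun g => ?_
      have e1 : ∑ x, A (h * g)⁻¹ i x * A h x j = A g⁻¹ i j := by
        rw [← Matrix.mul_apply, ← map_mul]
        simp
      have e2 : ∑ x, A h a x * A g x b = A (h * g) a b := by
        rw [← Matrix.mul_apply, ← map_mul]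
      calc ∑ x, A h a x * (A g⁻¹ i j * A g x b) = A g⁻¹ i j * ∑ x, A h a x * A g x b := by
            rw [Finset.mul_sum]
            exact Finset.sum_congr rfl fun x _ => by ring
        _ = A (h * g) a b * A g⁻¹ i j := by rw [e2, mul_comm]
        _ = ∑ x, A (h * g)⁻¹ i x * A (h * g) a b * A h x j := by
            rw [← e1, Finset.mul_sum]
            exact Finset.sum_congr rfl fun x _ => by ring
    obtain ⟨c, hc⟩ := schur_scalar ρ (Matrix.toLin' T) fun h => by
      rw [hρ, ← Matrix.toLin'_mul, ← Matrix.toLin'_mul, hcomm]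
    refine ⟨c, fun j a => ?_⟩
    have hTc : T = c • (1 : Matrix (Fin n) (Fin n) ℂ) :=
      Matrix.toLin'.injective (by rw [hc, map_smul, Matrix.toLin'_one])
    have := congrFun (congrFun hTc a) j
    simpa [hT, Matrix.one_apply] using this
  choose c hc using key
  exact ⟨c, fun i j a b => hc i b j a⟩

/-- The coefficient constant is the order over the degree. -/
theorem coeff_orth' [Fintype G] {n : ℕ} (A : G →* Matrix (Fin n) (Fin n) ℂ)
    (ρ : Representation ℂ G (Fin n → ℂ)) (hρ : ∀ g, ρ g = Matrix.toLin' (A g))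
    [ρ.IsIrreducible] :
    ∃ s : ℂ, (n : ℂ) * s = (Nat.card G : ℂ) ∧ ∀ i j a b : Fin n,
      ∑ g : G, A g⁻¹ i j * A g a b = if a = j ∧ i = b then s else 0 := by
  classical
  obtain ⟨c, hc⟩ := coeff_orth A ρ hρ
  have hsym : ∀ i j a b : Fin n, ∑ g : G, A g⁻¹ i j * A g a b = if i = b then c a j else 0 := by
    intro i j a b
    rw [← hc a b i j]
    refine Fintype.sum_equiv (Equiv.inv G) _ _ fun g => ?_
    simp [mul_comm]
  have hn : 0 < n := by
    have := Char.finrank_pos_of_irreducible ρ
    rwa [Module.finrank_fin_fun] at this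
  let i₀ : Fin n := ⟨0, hn⟩
  have hdiag : ∀ i b : Fin n, c i b = if i = b then c i₀ i₀ else 0 := by
    intro i b
    have h := (hc i i₀ i₀ b).symm.trans (hsym i i₀ i₀ b)
    simpa using h
  refine ⟨c i₀ i₀, ?_, fun i j a b => ?_⟩
  · have h : ∑ j : Fin n, ∑ g : G, A g⁻¹ i₀ j * A g j i₀ = (Nat.card G : ℂ) := by
      rw [Finset.sum_comm, Nat.card_eq_fintype_card, ← Finset.card_univ, Finset.cast_card]
      refine Finset.sum_congr rfl fun g _ => ?_
      rw [← Matrix.mul_apply, ← map_mul, inv_mul_cancel, map_one, Matrix.one_apply_eq]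
    rw [← h]
    simp [hc]
  · rw [hc, hdiag i b]
    by_cases h1 : a = j <;> by_cases h2 : i = b <;> simp [h1, h2]

/-- A faithful irreducible representation of a group of odd order over the residue field of a
valuation ring of `ℂ` above two is given by a faithful irreducible character of the same degree. -/
theorem exists_char [Finite G] (hG : Odd (Nat.card G)) (V : ValuationSubring ℂ)
    (hV : V.valuation ((2 : ℕ) : ℂ) < 1) {U : Type} [AddCommGroup U]
    [Module (IsLocalRing.ResidueField V) U] [FiniteDimensional (IsLocalRing.ResidueField V) U]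
    [Nontrivial U] (σ : Representation (IsLocalRing.ResidueField V) G U)
    (hirr : ∀ S : Submodule (IsLocalRing.ResidueField V) U,
      (∀ g, ∀ v ∈ S, σ g v ∈ S) → S = ⊥ ∨ S = ⊤)
    (hfaith : ∀ g, σ g = 1 → g = 1) :
    ∃ χ : G → ℂ, IsIrrCharacter G χ ∧
      χ 1 = (Module.finrank (IsLocalRing.ResidueField V) U : ℂ) ∧ ∀ g, χ g = χ 1 → g = 1 := by
  classical
  haveI := Fintype.ofFinite G
  let k := IsLocalRing.ResidueField V
  let π : V →+* k := IsLocalRing.residue V
  haveI hk : CharP k 2 := (CharP.charP_iff_prime_eq_zero Nat.prime_two).2 (by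
    rw [← map_natCast π]
    refine (IsLocalRing.residue_eq_zero_iff _).2 ?_
    rw [V.valuation_lt_one_iff]
    exact hV)
  have hcard : (Nat.card G : k) = 1 := by
    obtain ⟨m, hm⟩ := hG
    rw [hm, Nat.cast_add, Nat.cast_mul, Nat.cast_one, CharP.cast_eq_zero k 2, zero_mul, zero_add]
  choose n ρ0 hρ0i hρ0 using fun χ : IrrCharacter G => χ.2
  choose A hA htr using fun χ : IrrCharacter G => TIFixed.exists_integral V
    (((LinearMap.toMatrixAlgEquiv' (R := ℂ) (n := Fin (n χ))).toMonoidHom).comp (ρ0 χ))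
  have htrace : ∀ χ g, (A χ g).trace = (χ : G → ℂ) g := by
    intro χ g
    rw [htr, ← hρ0 χ, Representation.character]
    exact ((LinearMap.trace_eq_matrix_trace ℂ (Pi.basisFun ℂ (Fin (n χ))) (ρ0 χ g)).trans
      (congrArg Matrix.trace (by rw [LinearMap.toMatrix_eq_toMatrix']; rfl))).symm
  have hmem : ∀ (χ : IrrCharacter G) g, (χ : G → ℂ) g ∈ V := by
    intro χ g
    rw [← htrace]
    exact sum_mem fun i _ => hA χ g i i
  let a : IrrCharacter G → G → V := fun χ g => ⟨(χ : G → ℂ) g, hmem χ g⟩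
  have hsum : ∑ χ : IrrCharacter G, π (a χ 1) • ∑ g : G, π (a χ g⁻¹) • σ g = 1 := by
    simp only [Finset.smul_sum, smul_smul, ← map_mul]
    rw [Finset.sum_comm]
    simp only [← Finset.sum_smul, ← map_sum]
    have e : ∀ g : G, (∑ χ : IrrCharacter G, a χ 1 * a χ g⁻¹) = if g = 1 then ((Nat.card G : ℕ) : V) else 0 := by
      intro g
      apply Subtype.ext
      have h := regular_expansion (G := G) g⁻¹
      simp only [inv_eq_one] at h
      push_cast [apply_ite (Subtype.val : V → ℂ)]
      simp only [a]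
      rw [← h]
    simp only [e, apply_ite π, map_natCast, map_zero, hcard, ite_smul, one_smul, zero_smul,
      Finset.sum_ite_eq', Finset.mem_univ, if_true, map_one]
  obtain ⟨χ, hχ⟩ : ∃ χ : IrrCharacter G, ∑ g : G, π (a χ g⁻¹) • σ g ≠ 0 := by
    by_contra hno
    push Not at hno
    simp only [hno, smul_zero, Finset.sum_const_zero] at hsum
    obtain ⟨x, hx⟩ := exists_ne (0 : U)
    exact hx (LinearMap.congr_fun hsum.symm x)
  let Ai : G → Matrix (Fin (n χ)) (Fin (n χ)) V := fun g => Matrix.of fun i j => ⟨A χ g i j, hA χ g i j⟩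
  let Ab : G → Matrix (Fin (n χ)) (Fin (n χ)) k := fun g => (Ai g).map π
  have hAb : ∀ g h, Ab (g * h) = Ab g * Ab h := by
    intro g h
    have : Ai (g * h) = Ai g * Ai h := by
      ext i j
      simp [Ai, Matrix.mul_apply]
    simp only [Ab, this, Matrix.map_mul]
  have hAb1 : Ab 1 = 1 := by
    have : Ai 1 = 1 := by
      ext i j
      simp [Ai, Matrix.one_apply]
      split_ifs <;> simp
    simp only [Ab, this, Matrix.map_one _ (map_zero π) (map_one π)]
  obtain ⟨i₀, x, hx⟩ : ∃ i x, ∑ g : G, Ab g⁻¹ i i • σ g x ≠ 0 := by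
    by_contra hno
    push Not at hno
    refine hχ (LinearMap.ext fun x => ?_)
    have e : ∀ g : G, π (a χ g⁻¹) = ∑ i, Ab g⁻¹ i i := by
      intro g
      have : a χ g⁻¹ = ∑ i, Ai g⁻¹ i i := by
        apply Subtype.ext
        push_cast
        simp only [a, Ai, Matrix.of_apply, ← htrace]
        rfl
      simp [this, Ab]
    simp only [LinearMap.sum_apply, LinearMap.smul_apply, e, Finset.sum_smul, LinearMap.zero_apply]
    rw [Finset.sum_comm]
    exact Finset.sum_eq_zero fun i _ => hno i x
  let f : Fin (n χ) → U := fun j => ∑ g : G, Ab g⁻¹ i₀ j • σ g x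
  let Φ : (Fin (n χ) → k) →ₗ[k] U := Fintype.linearCombination k f
  have hf : ∀ h j, σ h (f j) = ∑ m, Ab h m j • f m := by
    intro h j
    simp only [f, map_sum, map_smul, Finset.smul_sum, smul_smul]
    rw [Finset.sum_comm]
    refine Fintype.sum_equiv (Equiv.mulLeft h) _ _ fun g => ?_
    simp only [Equiv.coe_mulLeft, map_mul, Module.End.mul_apply]
    rw [← Finset.sum_smul]
    congr 1
    calc Ab g⁻¹ i₀ j = (Ab (h * g)⁻¹ * Ab h) i₀ j := by rw [← hAb]; simp
      _ = _ := by
        rw [Matrix.mul_apply]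
        exact Finset.sum_congr rfl fun m _ => mul_comm _ _
  have hΦ : ∀ h w, σ h (Φ w) = Φ ((Ab h).mulVec w) := by
    intro h w
    simp only [Φ, Fintype.linearCombination_apply, map_sum, map_smul, hf, Matrix.mulVec, dotProduct,
      Finset.smul_sum, Finset.sum_smul, smul_smul]
    rw [Finset.sum_comm]
    exact Finset.sum_congr rfl fun m _ => Finset.sum_congr rfl fun l _ => by rw [mul_comm]
  let ρ : Representation ℂ G (Fin (n χ) → ℂ) :=
    ((Matrix.toLinAlgEquiv' (R := ℂ) (n := Fin (n χ))).toMonoidHom).comp (A χ)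
  have hρ : ∀ g, ρ g = Matrix.toLin' (A χ g) := fun g => rfl
  have hρchar : ρ.character = (χ : G → ℂ) := by
    funext g
    rw [← htrace, Representation.character, hρ, Matrix.trace_toLin'_eq]
  haveI : ρ.IsIrreducible := Char.irreducible_of_character ρ (hρchar ▸ χ.2)
  obtain ⟨s, hs, horth⟩ := coeff_orth' (A χ) ρ hρ
  have hn : 0 < n χ := by
    have := Char.finrank_pos_of_irreducible ρ
    rwa [Module.finrank_fin_fun] at this
  have horthV : ∃ sb : k, sb ≠ 0 ∧ ∀ i j c d : Fin (n χ),
      ∑ g : G, Ab g⁻¹ i j * Ab g c d = if c = j ∧ i = d then sb else 0 := by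
    let i' : Fin (n χ) := ⟨0, hn⟩
    let sV : V := ∑ g : G, Ai g⁻¹ i' i' * Ai g i' i'
    have hsV : (sV : ℂ) = s := by
      have := horth i' i' i' i'
      rw [if_pos ⟨rfl, rfl⟩] at this
      rw [← this]
      simp [sV, Ai]
    refine ⟨π sV, fun h0 => ?_, fun i j c d => ?_⟩
    · have h1 : ((n χ : ℕ) : V) * sV = ((Nat.card G : ℕ) : V) := by
        apply Subtype.ext
        push_cast
        rw [hsV, hs]
      have h2 := congrArg π h1
      rw [map_mul, h0, mul_zero, map_natCast, hcard] at h2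
      exact zero_ne_one h2
    · have h1 : ∑ g : G, Ai g⁻¹ i j * Ai g c d = if c = j ∧ i = d then sV else 0 := by
        apply Subtype.ext
        push_cast [apply_ite (Subtype.val : V → ℂ)]
        rw [hsV, ← horth i j c d]
        simp [Ai]
      have h2 := congrArg π h1
      rw [map_sum, apply_ite π, map_zero] at h2
      simpa [Ab] using h2
  obtain ⟨sb, hsb, horth'⟩ := horthV
  have hAirr : ∀ W : Submodule k (Fin (n χ) → k), (∀ g, ∀ w ∈ W, (Ab g).mulVec w ∈ W) →
      W = ⊥ ∨ W = ⊤ := by
    intro W hW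
    by_cases hW0 : W = ⊥
    · exact Or.inl hW0
    right
    obtain ⟨w, hw, hw0⟩ := (Submodule.ne_bot_iff W).1 hW0
    obtain ⟨b, hb⟩ := Function.ne_iff.1 hw0
    rw [eq_top_iff, ← Pi.basisFun k (Fin (n χ)) |>.span_eq, Submodule.span_le]
    rintro _ ⟨c, rfl⟩
    have hmem : ∑ g : G, Ab g⁻¹ b c • (Ab g).mulVec w ∈ W :=
      Submodule.sum_mem _ fun g _ => W.smul_mem _ (hW g w hw)
    have e : ∑ g : G, Ab g⁻¹ b c • (Ab g).mulVec w = (sb * w b) • Pi.basisFun k (Fin (n χ)) c := by
      funext d
      simp only [Finset.sum_apply, Pi.smul_apply, smul_eq_mul, Matrix.mulVec, dotProduct,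
        Finset.mul_sum, ← mul_assoc]
      rw [Finset.sum_comm]
      simp only [← Finset.sum_mul, horth']
      simp [Pi.basisFun_apply, Pi.single_apply, ite_and]
    rw [e] at hmem
    exact (W.smul_mem_iff (mul_ne_zero hsb hb)).1 hmem
  have hΦ0 : Φ (Pi.single i₀ 1) = f i₀ := by
    simp [Φ, Fintype.linearCombination_apply, Pi.single_apply]
  have hinj : LinearMap.ker Φ = ⊥ := by
    refine (hAirr _ fun g w hw => ?_).resolve_right fun htop => hx ?_
    · rw [LinearMap.mem_ker] at hw ⊢
      rw [← hΦ, hw, map_zero]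
    · show f i₀ = 0
      rw [← hΦ0]
      exact LinearMap.mem_ker.1 (htop ▸ Submodule.mem_top)
  have hsurj : LinearMap.range Φ = ⊤ := by
    refine (hirr _ fun g v hv => ?_).resolve_left fun hbot => hx ?_
    · obtain ⟨w, rfl⟩ := hv
      exact ⟨_, (hΦ g w).symm⟩
    · show f i₀ = 0
      rw [← hΦ0]
      exact (Submodule.mem_bot k).1 (hbot ▸ LinearMap.mem_range_self Φ _)
  have hdim := LinearEquiv.finrank_eq
    (LinearEquiv.ofBijective Φ ⟨LinearMap.ker_eq_bot.1 hinj, LinearMap.range_eq_top.1 hsurj⟩)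
  rw [Module.finrank_fin_fun] at hdim
  refine ⟨χ, χ.2, ?_, fun g hg => hfaith g ?_⟩
  · rw [← hρchar, Representation.char_one, Module.finrank_fin_fun, hdim]
  · rw [← hρchar, Representation.char_one, character_eq_finrank_iff, hρ] at hg
    have hA1 : A χ g = 1 := Matrix.toLin'.injective (hg.trans Matrix.toLin'_one.symm)
    have hAb' : Ab g = 1 := by
      rw [← hAb1]
      have : Ai g = Ai 1 := by
        ext i j
        simp [Ai, hA1]
      simp only [Ab, this]
    refine LinearMap.ext fun v => ?_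
    obtain ⟨w, rfl⟩ := LinearMap.range_eq_top.1 hsurj v
    rw [hΦ, hAb', Matrix.one_mulVec, Module.End.one_apply]

end Cfsg.Agent.Invol.OddTransitive
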