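import Cfsg.Agent.Lib.Invol.OddTransitive.Descent
import Cfsg.Agent.Lib.Grp.Cores
import Cfsg.Agent.S4503
import Cfsg.Agent.S4504

/-!
Groups of odd order with a faithful character of degree at most `(p - 1) / 2` have a non-trivial
normal `p`-subgroup.
-/

set_option autoImplicit false
set_option linter.unusedSectionVars false

namespace Cfsg.Agent.Invol.OddTransitive

open Cfsg Cfsg.Agent.Char Cfsg.Agent.Block

universe u

variable {G : Type u} [Group G] [Finite G] {p : ℕ} [hp : Fact p.Prime] {χ : G → ℂ} {d : ℕ}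

/-- The projective special linear group in dimension two has even order. -/
theorem two_dvd_psl : 2 ∣ Nat.card (Matrix.ProjectiveSpecialLinearGroup (Fin 2) (ZMod p)) := by
  let w : Matrix.SpecialLinearGroup (Fin 2) (ZMod p) := ⟨!![0, 1; -1, 0], by simp [Matrix.det_fin_two]⟩
  have hw2 : w * w ∈ Subgroup.center (Matrix.SpecialLinearGroup (Fin 2) (ZMod p)) := by
    rw [Subgroup.mem_center_iff]
    intro g
    apply Subtype.ext
    show (g : Matrix (Fin 2) (Fin 2) (ZMod p)) * ((w : Matrix (Fin 2) (Fin 2) (ZMod p)) * w) =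
      ((w : Matrix (Fin 2) (Fin 2) (ZMod p)) * w) * g
    have e : (w : Matrix (Fin 2) (Fin 2) (ZMod p)) * w = -1 := by
      show !![0, 1; -1, 0] * !![0, 1; -1, 0] = (-1 : Matrix (Fin 2) (Fin 2) (ZMod p))
      ext i j
      fin_cases i <;> fin_cases j <;> simp
    rw [e, mul_neg, neg_mul, mul_one, one_mul]
  have hw : w ∉ Subgroup.center (Matrix.SpecialLinearGroup (Fin 2) (ZMod p)) := by
    intro h
    rw [Subgroup.mem_center_iff] at h
    let t : Matrix.SpecialLinearGroup (Fin 2) (ZMod p) := ⟨!![1, 1; 0, 1], by simp [Matrix.det_fin_two]⟩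
    have h' : !![1, 1; 0, 1] * !![0, 1; -1, 0] = !![0, 1; -1, 0] * (!![1, 1; 0, 1] : Matrix (Fin 2) (Fin 2) (ZMod p)) :=
      congrArg Subtype.val (h t)
    have := congrFun (congrFun h' 0) 0
    simp [Matrix.mul_apply, Fin.sum_univ_two] at this
  have h1 : (QuotientGroup.mk w : Matrix.ProjectiveSpecialLinearGroup (Fin 2) (ZMod p)) ≠ 1 :=
    fun h => hw ((QuotientGroup.eq_one_iff w).1 h)
  have h2 : orderOf (QuotientGroup.mk w : Matrix.ProjectiveSpecialLinearGroup (Fin 2) (ZMod p)) = 2 :=
    orderOf_eq_prime (by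
      rw [sq]
      exact (QuotientGroup.eq_one_iff (w * w)).2 hw2) h1
  have h3 := orderOf_dvd_natCard (QuotientGroup.mk w : Matrix.ProjectiveSpecialLinearGroup (Fin 2) (ZMod p))
  rwa [h2] at h3

theorem exists_normal_of_small (hG : Odd (Nat.card G)) (hdiv : p ∣ Nat.card G)
    (hsq : ¬ p ^ 2 ∣ Nat.card G) (hχ : IsCharacter G χ) (hd : χ 1 = d)
    (hfaith : ∀ g, χ g = χ 1 → g = 1) (hdp : 2 * d + 1 ≤ p) :
    ∃ H : Subgroup G, H.Normal ∧ Nat.card H = p := by
  by_contra hno
  push Not at hno
  have hdeg : Cfsg.charDegree χ = d := by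
    have := Cfsg.Agent.Block.charDeg_spec hχ
    rw [hd] at this
    exact_mod_cast this.symm
  have h1 := Cfsg.Agent.S4503.result p hp.out hdiv hsq hno χ hχ hfaith
  rw [hdeg] at h1
  obtain ⟨e⟩ := Cfsg.Agent.S4504.result p hp.out hdiv hsq hno χ hχ hfaith (by omega)
  have h2 : 2 ∣ Nat.card G := by
    refine (two_dvd_psl (p := p)).trans ?_
    rw [← Nat.card_congr e.toEquiv]
    exact Subgroup.card_quotient_dvd_card _
  exact (Nat.not_even_iff_odd.2 hG) (even_iff_two_dvd.2 h2)

theorem pCore_ne_bot_of_order_sq (hχ : IsCharacter G χ) (hd : χ 1 = d)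
    (hfaith : ∀ g, χ g = χ 1 → g = 1) (hdp : d < p) {y : G} (hy : orderOf y = p ^ 2) :
    Cfsg.pCore p G ≠ ⊥ := by
  classical
  obtain ⟨n, ρ₀, rfl⟩ := hχ
  have hne : n = d := by
    rw [Representation.char_one, Module.finrank_fin_fun] at hd
    exact_mod_cast hd
  subst hne
  obtain ⟨V, hV⟩ := TIFixed.exists_valuation hp.out
  let R0 : G →* Matrix (Fin n) (Fin n) ℂ :=
    (LinearMap.toMatrixAlgEquiv' (R := ℂ) (n := Fin n)).toMonoidHom.comp ρ₀
  obtain ⟨A, hA, htr⟩ := TIFixed.exists_integral V R0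
  let π : V →+* IsLocalRing.ResidueField V := IsLocalRing.residue V
  haveI hchar : CharP (IsLocalRing.ResidueField V) p :=
    (CharP.charP_iff_prime_eq_zero (Fact.out : p.Prime)).2 (by
      rw [← map_natCast π]
      refine (IsLocalRing.residue_eq_zero_iff _).2 ?_
      rw [V.valuation_lt_one_iff]
      exact hV)
  let A' : G →* Matrix (Fin n) (Fin n) V :=
    { toFun := fun g => Matrix.of fun i j => ⟨A g i j, hA g i j⟩
      map_one' := by
        ext i j
        simp [Matrix.one_apply]
        split_ifs <;> simp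
      map_mul' := fun a b => by
        ext i j
        simp [Matrix.mul_apply] }
  have hA'one : ∀ g, A' g = 1 → g = 1 := fun g hg => by
    refine hfaith g ?_
    have e1 : A g = 1 := by
      ext i j
      have := congrArg (fun M : Matrix (Fin n) (Fin n) V => ((M i j : V) : ℂ)) hg
      simp [A', Matrix.one_apply] at this
      rw [this, Matrix.one_apply]
      split_ifs <;> simp
    have h0 : ∀ x, ρ₀.character x = (A x).trace := fun x => by
      rw [htr, Representation.character]
      exact (LinearMap.trace_eq_matrix_trace ℂ (Pi.basisFun ℂ (Fin n)) (ρ₀ x)).trans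
        (congrArg Matrix.trace (by rw [LinearMap.toMatrix_eq_toMatrix']; rfl))
    rw [h0, h0, e1, map_one]
  let Ab : G →* Matrix (Fin n) (Fin n) (IsLocalRing.ResidueField V) :=
    (RingHom.mapMatrix π).toMonoidHom.comp A'
  have hker : IsPGroup p Ab.ker := by
    refine IsPGroup.of_card (Nat.eq_prime_pow_of_unique_prime_dvd Nat.card_pos.ne' fun {q} hqp hqd => ?_)
    by_contra hq
    haveI := Fact.mk hqp
    obtain ⟨g, hg⟩ := exists_prime_orderOf_dvd_card' q hqd
    have hg1 : (g : G) = 1 := by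
      refine hA'one _ ?_
      set M := A' (g : G)
      have hπM : π.mapMatrix M = 1 := g.2
      have hMq : M ^ q = 1 := by
        rw [← map_pow, ← SubmonoidClass.coe_pow, ← hg, pow_orderOf_eq_one]
        exact map_one A'
      have hS : π.mapMatrix (∑ i ∈ Finset.range q, M ^ i) = (q : IsLocalRing.ResidueField V) • 1 := by
        rw [map_sum, Finset.sum_congr rfl (g := fun _ => 1) fun i _ => by rw [map_pow, hπM, one_pow],
          Finset.sum_const, Finset.card_range, Nat.cast_smul_eq_nsmul]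
      have hq0 : (q : IsLocalRing.ResidueField V) ≠ 0 := by
        rw [Ne, CharP.cast_eq_zero_iff _ p]
        exact fun h => hq ((Nat.prime_dvd_prime_iff_eq hp.out hqp).1 h).symm
      have hunit : IsUnit (∑ i ∈ Finset.range q, M ^ i) := by
        rw [Matrix.isUnit_iff_isUnit_det]
        refine (IsLocalRing.residue_ne_zero_iff_isUnit _).1 ?_
        show π _ ≠ 0
        rw [RingHom.map_det, hS, Matrix.det_smul, Matrix.det_one, mul_one]
        exact pow_ne_zero _ hq0
      have h := mul_geom_sum M q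
      rw [hMq, sub_self] at h
      exact sub_eq_zero.1 (hunit.mul_left_eq_zero.1 h)
    rw [Subtype.ext hg1 |>.trans (rfl : (1 : Ab.ker) = 1), orderOf_one] at hg
    exact hqp.one_lt.ne hg
  have hyp : y ^ p ∈ Ab.ker := by
    rw [MonoidHom.mem_ker, map_pow]
    rcases Nat.eq_zero_or_pos n with rfl | hn0
    · exact Subsingleton.elim _ _
    haveI : Nonempty (Fin n) := ⟨⟨0, hn0⟩⟩
    have h1 : IsNilpotent (Ab y - 1) := ⟨p ^ 2, by
      rw [sub_pow_char_pow_of_commute p 2 (Commute.one_right _), one_pow, ← map_pow, ← hy,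
        pow_orderOf_eq_one, map_one, sub_self]⟩
    have h2 : (Ab y - 1) ^ n = 0 := by
      have hT : IsNilpotent (Matrix.toLinAlgEquiv' (Ab y - 1)) := h1.map _
      have h3 := LinearMap.aeval_self_charpoly (Matrix.toLinAlgEquiv' (Ab y - 1))
      rw [IsNilpotent.charpoly_eq_X_pow_finrank hT, map_pow, Polynomial.aeval_X,
        Module.finrank_fin_fun, ← map_pow] at h3
      exact Matrix.toLinAlgEquiv'.injective (h3.trans (map_zero _).symm)
    have h3 := pow_eq_zero_of_le hdp.le h2
    rwa [sub_pow_char_of_commute p (Commute.one_right _), one_pow, sub_eq_zero] at h3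
  intro h0
  have hle := Grp.le_pCore (p := p) (N := Ab.ker) inferInstance hker
  have h1 : y ^ p = 1 := Subgroup.mem_bot.1 (h0 ▸ hle hyp)
  have h2 := Nat.le_of_dvd hp.out.pos (orderOf_dvd_of_pow_eq_one h1)
  rw [hy] at h2
  nlinarith [hp.out.two_le]

end Cfsg.Agent.Invol.OddTransitive
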